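import Groth.Agent.FlatModel41.Models
import Groth.Agent.DCK91.TorFlat
import Mathlib.Algebra.Homology.HomologySequence
import Mathlib.Algebra.Homology.ShortComplex.ExactFunctor

/-!
Exactness of `M ↦ H^p(M ⊗^L E)` on a ringed site.
-/

set_option autoImplicit false
set_option linter.style.haveILetI false
set_option linter.unusedSectionVars false

noncomputable section

universe u

open CategoryTheory CategoryTheory.Limits HomologicalComplex

attribute [local instance] HasDerivedCategory.standard

namespace Groth.Agent.FlatModel41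

open Groth.Agent.Mod48

section Abstract

variable {A B : Type*} [Category* A] [Category* B] [Abelian A] [Abelian B] (G : A ⥤ CochainComplex B ℤ)

/-- A cohomology functor of a functor to complexes. -/
abbrev HFun (p : ℤ) : A ⥤ B := G ⋙ homologyFunctor B (ComplexShape.up ℤ) p

variable [G.Additive]

theorem preservesFiniteColimits_iff_succ (hG : ∀ S : ShortComplex A, S.ShortExact → (S.map G).ShortExact)
    (p : ℤ) : PreservesFiniteColimits (HFun G p) ↔ PreservesFiniteLimits (HFun G (p + 1)) := by
  have hij : (ComplexShape.up ℤ).Rel p (p + 1) := rfl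
  rw [Functor.preservesFiniteColimits_iff_forall_exact_map_and_epi,
    Functor.preservesFiniteLimits_iff_forall_exact_map_and_mono]
  refine forall_congr' fun S => imp_congr_right fun hS => ?_
  have h1 : (S.map (HFun G p)).Exact := (hG S hS).homology_exact₂ p
  have h2 : (S.map (HFun G (p + 1))).Exact := (hG S hS).homology_exact₂ (p + 1)
  rw [and_iff_right h1, and_iff_right h2]
  constructor
  · intro h
    have h0 : (hG S hS).δ p (p + 1) hij = 0 := by
      haveI : Epi (homologyMap (S.map G).g p) := h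
      exact (cancel_epi (homologyMap (S.map G).g p)).1 (((hG S hS).comp_δ p (p + 1) hij).trans comp_zero.symm)
    exact ((hG S hS).homology_exact₁ p (p + 1) hij).mono_g h0
  · intro h
    have h0 : (hG S hS).δ p (p + 1) hij = 0 := by
      haveI : Mono (homologyMap (S.map G).f (p + 1)) := h
      exact (cancel_mono (homologyMap (S.map G).f (p + 1))).1 (((hG S hS).δ_comp p (p + 1) hij).trans zero_comp.symm)
    exact ((hG S hS).homology_exact₃ p (p + 1) hij).epi_f h0

theorem preservesFiniteLimits_iff_mono (hG : ∀ S : ShortComplex A, S.ShortExact → (S.map G).ShortExact)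
    (p : ℤ) : PreservesFiniteLimits (HFun G p) ↔
      ∀ ⦃M N : A⦄ (k : M ⟶ N) [Mono k], Mono (homologyMap (G.map k) p) := by
  constructor
  · intro h M N k _
    exact (inferInstance : (HFun G p).PreservesMonomorphisms).preserves k
  · intro h
    rw [Functor.preservesFiniteLimits_iff_forall_exact_map_and_mono]
    intro S hS
    haveI := hS.mono_f
    exact ⟨(hG S hS).homology_exact₂ p, h S.f⟩

lemma opcyclesMap_comp_fromOpcycles {K L : CochainComplex B ℤ} (φ : K ⟶ L) (i j : ℤ) :
    opcyclesMap φ i ≫ L.fromOpcycles i j = K.fromOpcycles i j ≫ φ.f j := by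
  rw [← cancel_epi (K.pOpcycles i), p_opcyclesMap_assoc, p_fromOpcycles, p_fromOpcycles_assoc, φ.comm]

theorem mono_opcyclesMap {K L : CochainComplex B ℤ} (φ : K ⟶ L) (i : ℤ) [Mono (φ.f (i + 1))]
    [Mono (homologyMap φ i)] : Mono (opcyclesMap φ i) := by
  refine Preadditive.mono_of_cancel_zero _ fun {W} x hx => ?_
  have h1 : x ≫ K.fromOpcycles i (i + 1) = 0 := by
    have h : x ≫ opcyclesMap φ i ≫ L.fromOpcycles i (i + 1) = 0 := by
      rw [reassoc_of% hx, zero_comp]
    rw [opcyclesMap_comp_fromOpcycles] at h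
    rw [← cancel_mono (φ.f (i + 1)), zero_comp, Category.assoc]
    exact h
  let S := ShortComplex.mk (K.homologyι i) (K.fromOpcycles i (i + 1)) (K.homologyι_comp_fromOpcycles i (i + 1))
  have hS : IsLimit (KernelFork.ofι S.f S.zero) := K.homologyIsKernel i (i + 1) (by simp)
  obtain ⟨y, hy⟩ := KernelFork.IsLimit.lift' hS x h1
  change y ≫ K.homologyι i = x at hy
  rw [← hy, Category.assoc, ← homologyι_naturality, ← Category.assoc] at hx
  have hy0 : y ≫ homologyMap φ i = 0 := by
    rw [← cancel_mono (L.homologyι i), zero_comp]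
    exact hx
  rw [← hy, show y = 0 from (cancel_mono (homologyMap φ i)).1 (by rw [hy0, zero_comp]), zero_comp]

theorem mono_homologyMap_of_opcyclesMap {K L : CochainComplex B ℤ} (φ : K ⟶ L) (i : ℤ)
    [Mono (opcyclesMap φ i)] : Mono (homologyMap φ i) := by
  have : Mono (homologyMap φ i ≫ L.homologyι i) := by
    rw [homologyι_naturality]
    infer_instance
  exact mono_of_mono _ (L.homologyι i)

end Abstract

variable {C : Type u} [SmallCategory C] {J : GrothendieckTopology C} {O : Sheaf J CommRingCat.{u}}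

/-- `M ↦ M ⊗ E`, degreewise. -/
def GE (E : CC O) : ModSite.Mod O ⥤ CC O where
  obj M := (((ModSite.tensorBi O).obj M).mapHomologicalComplex (ComplexShape.up ℤ)).obj E
  map {M N} k :=
    { f := fun i => (tR (E.X i)).map k
      comm' := fun i j _ => (tRMap (E.d i j)).naturality k }
  map_id M := by ext i : 1; exact (tR (E.X i)).map_id M
  map_comp k l := by ext i : 1; exact (tR (E.X i)).map_comp k l

instance (E : CC O) : (GE E).Additive where
  map_add := by intros; ext i : 1; exact (tR (E.X i)).map_add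

lemma GE_map_f (E : CC O) {M N : ModSite.Mod O} (k : M ⟶ N) (i : ℤ) :
    ((GE E).map k).f i = (tR (E.X i)).map k := rfl

theorem shortExact_GE (E : CC O) (hE : ∀ i, ModSite.IsFlat (E.X i)) (S : ShortComplex (ModSite.Mod O))
    (hS : S.ShortExact) : (S.map (GE E)).ShortExact := by
  refine HomologicalComplex.shortExact_of_degreewise_shortExact _ fun i => ?_
  haveI : PreservesFiniteLimits (tR (E.X i)) := (hE i).1
  haveI : PreservesFiniteColimits (tR (E.X i)) := (hE i).2
  exact hS.map_of_exact (tR (E.X i))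

section Opcycles

variable (E : CC O) (q : ℤ)

/-- The cokernel of the differential. -/
def opIso (M : ModSite.Mod O) : ((GE E).obj M).opcycles (q + 1) ≅ (tL M).obj (cokernel (E.d q (q + 1))) :=
  IsColimit.coconePointUniqueUpToIso (((GE E).obj M).opcyclesIsCokernel q (q + 1) (by simp))
    (CokernelCofork.mapIsColimit _ (cokernelIsCokernel (E.d q (q + 1))) (tL M))

lemma pOpcycles_opIso (M : ModSite.Mod O) :
    ((GE E).obj M).pOpcycles (q + 1) ≫ (opIso E q M).hom = (tL M).map (cokernel.π (E.d q (q + 1))) :=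
  IsColimit.comp_coconePointUniqueUpToIso_hom (((GE E).obj M).opcyclesIsCokernel q (q + 1) (by simp)) _
    WalkingParallelPair.one

lemma opIso_natural {M N : ModSite.Mod O} (k : M ⟶ N) :
    opcyclesMap ((GE E).map k) (q + 1) ≫ (opIso E q N).hom =
      (opIso E q M).hom ≫ (tR (cokernel (E.d q (q + 1)))).map k := by
  rw [← cancel_epi (((GE E).obj M).pOpcycles (q + 1)), p_opcyclesMap_assoc, pOpcycles_opIso,
    ← Category.assoc, pOpcycles_opIso, GE_map_f]
  exact ((tRMap (cokernel.π (E.d q (q + 1)))).naturality k)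

theorem isFlat_cokernel_iff (hE : ∀ i, ModSite.IsFlat (E.X i)) :
    ModSite.IsFlat (cokernel (E.d q (q + 1))) ↔ PreservesFiniteLimits (HFun (GE E) (q + 1)) := by
  rw [preservesFiniteLimits_iff_mono (GE E) (shortExact_GE E hE), isFlat_iff_mono]
  constructor
  · intro h M N k _
    haveI := h k
    haveI : Mono (opcyclesMap ((GE E).map k) (q + 1)) := by
      have hm : Mono ((opIso E q M).hom ≫ (tR (cokernel (E.d q (q + 1)))).map k) := mono_comp _ _
      rw [← opIso_natural] at hm
      exact mono_of_mono _ (opIso E q N).hom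
    exact mono_homologyMap_of_opcyclesMap _ _
  · intro h M N k _
    haveI := h k
    haveI : Mono (((GE E).map k).f (q + 1 + 1)) := (isFlat_iff_mono _).1 (hE _) k
    haveI := mono_opcyclesMap ((GE E).map k) (q + 1)
    have hm : Mono (opcyclesMap ((GE E).map k) (q + 1) ≫ (opIso E q N).hom) := mono_comp _ _
    rw [opIso_natural] at hm
    have : Mono ((opIso E q M).inv ≫ ((opIso E q M).hom ≫ (tR (cokernel (E.d q (q + 1)))).map k)) := mono_comp _ _
    rwa [Iso.inv_hom_id_assoc] at this

end Opcycles

/-- The comparison `M ⊗ E ⟶ Tot(M[0] ⊗ E)` in one degree. -/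
def sglTcApp (M : ModSite.Mod O) (E : CC O) (n : ℤ) : ((ModSite.tensorBi O).obj M).obj (E.X n) ⟶ (tc (sgl M) E).X n :=
  ((ModSite.tensorBi O).map (HomologicalComplex.singleObjXSelf (ComplexShape.up ℤ) 0 M).inv).app (E.X n) ≫
    ιMapBifunctor (sgl M) E (ModSite.tensorBi O) (ComplexShape.up ℤ) 0 n n (zero_add n)

/-- `M ⊗ E ⟶ Tot(M[0] ⊗ E)`. -/
def sglTc (M : ModSite.Mod O) (E : CC O) : (GE E).obj M ⟶ tc (sgl M) E where
  f n := sglTcApp M E n
  comm' i j hij := by
    have key : ιMapBifunctor (sgl M) E (ModSite.tensorBi O) (ComplexShape.up ℤ) 0 i i (zero_add i) ≫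
        (tc (sgl M) E).d i j = ((ModSite.tensorBi O).obj ((sgl M).X 0)).map (E.d i j) ≫
          ιMapBifunctor (sgl M) E (ModSite.tensorBi O) (ComplexShape.up ℤ) 0 j j (zero_add j) := by
      rw [HomologicalComplex.mapBifunctor.d_eq, Preadditive.comp_add, HomologicalComplex.mapBifunctor.ι_D₁,
        HomologicalComplex.mapBifunctor.ι_D₂,
        HomologicalComplex.mapBifunctor.d₁_eq' _ _ _ _ (show (ComplexShape.up ℤ).Rel 0 1 from zero_add 1) i j,
        HomologicalComplex.mapBifunctor.d₂_eq _ _ _ _ 0 hij j (zero_add j),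
        HomologicalComplex.single_obj_d, CategoryTheory.Functor.map_zero, zero_app, zero_comp, smul_zero, zero_add,
        show ComplexShape.ε₂ (ComplexShape.up ℤ) (ComplexShape.up ℤ) (ComplexShape.up ℤ) ((0 : ℤ), i) = 1
          from Int.negOnePow_zero, one_smul]
    change sglTcApp M E i ≫ (tc (sgl M) E).d i j = ((ModSite.tensorBi O).obj M).map (E.d i j) ≫ sglTcApp M E j
    rw [sglTcApp, sglTcApp, Category.assoc, key]
    exact (NatTrans.naturality_assoc _ _ _).symm

/-- The inverse comparison in one degree. -/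
def sglTcInv (M : ModSite.Mod O) (E : CC O) (n : ℤ) :
    (tc (sgl M) E).X n ⟶ ((ModSite.tensorBi O).obj M).obj (E.X n) :=
  mapBifunctorDesc fun p q h =>
    if hp : p = 0 then
      ((ModSite.tensorBi O).map (singleObjXIsoOfEq (ComplexShape.up ℤ) 0 M p hp).hom).app (E.X q) ≫
        ((ModSite.tensorBi O).obj M).map (eqToHom (congrArg E.X (show q = n by
          change p + q = n at h; omega)))
    else 0

lemma sglTcApp_inv (M : ModSite.Mod O) (E : CC O) (n : ℤ) : sglTcApp M E n ≫ sglTcInv M E n = 𝟙 _ := by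
  rw [sglTcApp, sglTcInv, Category.assoc]
  erw [ι_mapBifunctorDesc]
  rw [dif_pos rfl, eqToHom_refl, CategoryTheory.Functor.map_id, Category.comp_id, ← NatTrans.comp_app,
    ← CategoryTheory.Functor.map_comp]
  exact (congrArg (fun t => ((ModSite.tensorBi O).map t).app (E.X n))
    (singleObjXSelf (ComplexShape.up ℤ) 0 M).inv_hom_id).trans (by rw [CategoryTheory.Functor.map_id]; rfl)

lemma sglTcInv_app (M : ModSite.Mod O) (E : CC O) (n : ℤ) : sglTcInv M E n ≫ sglTcApp M E n = 𝟙 _ := by
  refine mapBifunctor.hom_ext fun p q h => ?_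
  by_cases hp : p = 0
  · subst hp
    obtain rfl : q = n := by change 0 + q = n at h; omega
    rw [sglTcApp, sglTcInv, ← Category.assoc]
    erw [ι_mapBifunctorDesc]
    rw [dif_pos rfl, eqToHom_refl, CategoryTheory.Functor.map_id, Category.comp_id, Category.comp_id,
      ← Category.assoc, ← NatTrans.comp_app, ← CategoryTheory.Functor.map_comp]
    exact (congrArg (fun t => ((ModSite.tensorBi O).map t).app (E.X q) ≫ _)
      (singleObjXSelf (ComplexShape.up ℤ) 0 M).hom_inv_id).trans (by
        rw [CategoryTheory.Functor.map_id, NatTrans.id_app]; exact Category.id_comp _)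
  · exact ((tR (E.X q)).map_isZero (isZero_single_obj_X _ 0 M p hp)).eq_of_src _ _

instance isIso_sglTc (M : ModSite.Mod O) (E : CC O) : IsIso (sglTc M E) := by
  haveI : ∀ n, IsIso ((sglTc M E).f n) := fun n => ⟨sglTcInv M E n, sglTcApp_inv M E n, sglTcInv_app M E n⟩
  exact HomologicalComplex.Hom.isIso_of_components (sglTc M E)

/-- The degreewise tensor product is the total complex with a module in degree zero. -/
def sglTcIso (E : CC O) :
    GE E ≅ HomologicalComplex.single (ModSite.Mod O) (ComplexShape.up ℤ) 0 ⋙ (ModSite.tensorCx O).flip.obj E :=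
  NatIso.ofComponents (fun M => @asIso _ _ _ _ (sglTc M E) (isIso_sglTc M E)) fun {M N} k => by
    ext n : 1
    change ((ModSite.tensorBi O).map k).app (E.X n) ≫ sglTcApp N E n = sglTcApp M E n ≫
      (mapBifunctorMap ((HomologicalComplex.single _ (ComplexShape.up ℤ) 0).map k) (𝟙 E)
        (ModSite.tensorBi O) (ComplexShape.up ℤ)).f n
    rw [sglTcApp, sglTcApp, Category.assoc, ι_mapBifunctorMap, HomologicalComplex.id_f,
      CategoryTheory.Functor.map_id, Category.id_comp, ← Category.assoc, ← Category.assoc]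
    refine congrArg (· ≫ _) ?_
    rw [← NatTrans.comp_app, ← NatTrans.comp_app, ← CategoryTheory.Functor.map_comp,
      ← CategoryTheory.Functor.map_comp]
    refine congrArg (fun t => ((ModSite.tensorBi O).map t).app (E.X n)) ?_
    rw [HomologicalComplex.single_map_f_self, Iso.inv_hom_id_assoc]

theorem tensor_second_qis {X : CC O} (hX : ModSite.IsKFlat X) {P E : CC O} (c : P ⟶ E) [QuasiIso c] :
    QuasiIso (((ModSite.tensorCx O).obj X).map c) :=
  quasiIso_map_of_split _ c (preservesHtp_tensorCx_obj X)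
    (fun S _ hσ => shortExact_tensorCx_obj_of_split X S hσ)
    (fun S _ _ _ _ h => acyclic_of_iso (tcSymm S.X₃ X) ((isKFlat_iff X).1 hX S.X₃ h))

/-- The derived tensor product through a K-flat resolution of the fixed complex. -/
theorem nonempty_LTensorCx_iso (E P : CC O) [ModSite.HasLTensorCx E] (hP : ModSite.IsKFlat P) (c : P ⟶ E)
    [QuasiIso c] :
    Nonempty ((ModSite.tensorCx O).flip.obj P ⋙ DerivedCategory.Q ≅ DerivedCategory.Q ⋙ ModSite.LTensorCx E) := by
  let W := HomologicalComplex.quasiIso (ModSite.Mod O) (ComplexShape.up ℤ)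
  have hF : W.IsInvertedBy (ModSite.tensorCxQ P) := by
    intro F F' φ hφ
    exact (DerivedCategory.isIso_Q_map_iff_quasiIso (ModSite.Mod O) _).2
      (DCK91.quasiIso_right P hP φ ((HomologicalComplex.mem_quasiIso_iff φ).1 hφ))
  let FP : DCoh.DMod (ModSite.ringSh O) ⥤ DCoh.DMod (ModSite.ringSh O) :=
    Localization.lift (ModSite.tensorCxQ P) hF DerivedCategory.Q
  let fac : DerivedCategory.Q ⋙ FP ≅ ModSite.tensorCxQ P := Localization.fac (ModSite.tensorCxQ P) hF DerivedCategory.Q
  let α : ModSite.tensorCxQ P ⟶ ModSite.tensorCxQ E :=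
    Functor.whiskerRight ((ModSite.tensorCx O).flip.map c) DerivedCategory.Q
  let LF := ModSite.LTensorCx E
  haveI : LF.IsLeftDerivedFunctor (DerComp18.ltCounit E) W := inferInstance
  let τ : FP ⟶ LF := LF.leftDerivedLift (DerComp18.ltCounit E) W FP (fac.hom ≫ α)
  have hτ : ∀ X : CC O, ModSite.IsKFlat X → IsIso (τ.app (DerivedCategory.Q.obj X)) := by
    intro X hX
    haveI := DerComp18.isIso_ltCounit E X hX
    haveI := tensor_second_qis hX c
    haveI : IsIso (α.app X) := (DerivedCategory.isIso_Q_map_iff_quasiIso (ModSite.Mod O) _).2 this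
    have h : τ.app (DerivedCategory.Q.obj X) ≫ (DerComp18.ltCounit E).app X = (fac.hom ≫ α).app X :=
      LF.leftDerived_fac_app _ W FP _ X
    haveI : IsIso (τ.app (DerivedCategory.Q.obj X) ≫ (DerComp18.ltCounit E).app X) := by
      rw [h, NatTrans.comp_app]; infer_instance
    exact IsIso.of_isIso_comp_right (τ.app (DerivedCategory.Q.obj X)) ((DerComp18.ltCounit E).app X)
  haveI : ∀ D, IsIso (τ.app D) := fun D => by
    obtain ⟨R, q, hR, -, hq, -⟩ := exists_resolution (DerivedCategory.Q.objPreimage D)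
    haveI := hτ R hR
    let e : DerivedCategory.Q.obj R ≅ D := @asIso _ _ _ _ (DerivedCategory.Q.map q)
      ((DerivedCategory.isIso_Q_map_iff_quasiIso (ModSite.Mod O) q).2 hq) ≪≫ DerivedCategory.Q.objObjPreimageIso D
    exact (NatTrans.isIso_app_iff_of_iso τ e).1 inferInstance
  haveI := NatIso.isIso_of_isIso_app τ
  exact ⟨fac.symm ≪≫ Functor.isoWhiskerLeft _ (asIso τ)⟩

/-- The functor `M ↦ H^p(M ⊗^L E)` through a flat resolution. -/
theorem nonempty_HFun_iso (E P : CC O) [ModSite.HasLTensorCx E] (hP : ModSite.IsKFlat P) (c : P ⟶ E) [QuasiIso c]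
    (p : ℤ) :
    Nonempty (DerivedCategory.singleFunctor (ModSite.Mod O) 0 ⋙ ModSite.LTensorCx E ⋙
      DerivedCategory.homologyFunctor (ModSite.Mod O) p ≅ HFun (GE P) p) := by
  obtain ⟨e⟩ := nonempty_LTensorCx_iso E P hP c
  let eS : DerivedCategory.singleFunctor (ModSite.Mod O) 0 ≅
      HomologicalComplex.single (ModSite.Mod O) (ComplexShape.up ℤ) 0 ⋙ DerivedCategory.Q :=
    (SingleFunctors.evaluation _ _ 0).mapIso (DerivedCategory.singleFunctorsPostcompQIso (ModSite.Mod O))
  exact ⟨Functor.isoWhiskerRight eS _ ≪≫ Functor.associator _ _ _ ≪≫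
    Functor.isoWhiskerLeft _ ((Functor.associator _ _ _).symm ≪≫ Functor.isoWhiskerRight e.symm _ ≪≫
      Functor.associator _ _ _ ≪≫
      Functor.isoWhiskerLeft _ (DerivedCategory.homologyFunctorFactors (ModSite.Mod O) p)) ≪≫
    (Functor.associator _ _ _).symm ≪≫ Functor.isoWhiskerRight (sglTcIso P).symm _⟩

theorem preservesFiniteColimits_iff_of_iso {A B : Type*} [Category* A] [Category* B] {F G : A ⥤ B} (e : F ≅ G) :
    PreservesFiniteColimits F ↔ PreservesFiniteColimits G :=
  ⟨fun _ => ⟨fun _ => preservesColimitsOfShape_of_natIso e⟩,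
    fun _ => ⟨fun _ => preservesColimitsOfShape_of_natIso e.symm⟩⟩

theorem preservesFiniteLimits_iff_of_iso {A B : Type*} [Category* A] [Category* B] {F G : A ⥤ B} (e : F ≅ G) :
    PreservesFiniteLimits F ↔ PreservesFiniteLimits G :=
  ⟨fun _ => preservesFiniteLimits_of_natIso e, fun _ => preservesFiniteLimits_of_natIso e.symm⟩

/-- Right exactness in degree `p` is left exactness in degree `p + 1`. -/
theorem rightExact_iff_leftExact_succ (E : CC O) (e : ℤ) [(DerivedCategory.Q.obj E).IsLE e]
    [ModSite.HasLTensorCx E] (p : ℤ) :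
    PreservesFiniteColimits (DerivedCategory.singleFunctor (ModSite.Mod O) 0 ⋙ ModSite.LTensorCx E ⋙
        DerivedCategory.homologyFunctor (ModSite.Mod O) p) ↔
      PreservesFiniteLimits (DerivedCategory.singleFunctor (ModSite.Mod O) 0 ⋙ ModSite.LTensorCx E ⋙
        DerivedCategory.homologyFunctor (ModSite.Mod O) (p + 1)) := by
  have hle : CochainComplex.IsLE E e := (DerivedCategory.isLE_Q_obj_iff E e).1 inferInstance
  obtain ⟨P, c, hPb, hPf, hc⟩ := DCK91.exists_flat_res_le E e hle
  haveI := hc
  have hk : ModSite.IsKFlat P :=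
    DCK91.isKFlat_of_le P e ((CochainComplex.isStrictlyLE_iff P e).2 hPb) hPf
  obtain ⟨e₀⟩ := nonempty_HFun_iso E P hk c p
  obtain ⟨e₁⟩ := nonempty_HFun_iso E P hk c (p + 1)
  exact ((preservesFiniteColimits_iff_of_iso e₀).trans
    (preservesFiniteColimits_iff_succ (GE P) (shortExact_GE P hPf) p)).trans
      (preservesFiniteLimits_iff_of_iso e₁).symm

/-- Right exactness in degree `p` is flatness of the cokernel of the differential. -/
theorem rightExact_iff_isFlat_cokernel (E : CC O) (e : ℤ) (hEb : ∀ i, e < i → IsZero (E.X i))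
    (hEf : ∀ i, ModSite.IsFlat (E.X i)) [ModSite.HasLTensorCx E] (p : ℤ) :
    PreservesFiniteColimits (DerivedCategory.singleFunctor (ModSite.Mod O) 0 ⋙ ModSite.LTensorCx E ⋙
        DerivedCategory.homologyFunctor (ModSite.Mod O) p) ↔ ModSite.IsFlat (cokernel (E.d p (p + 1))) := by
  have hk : ModSite.IsKFlat E :=
    DCK91.isKFlat_of_le E e ((CochainComplex.isStrictlyLE_iff E e).2 hEb) hEf
  obtain ⟨e₀⟩ := nonempty_HFun_iso E E hk (𝟙 E) p
  exact ((preservesFiniteColimits_iff_of_iso e₀).trans
    (preservesFiniteColimits_iff_succ (GE E) (shortExact_GE E hEf) p)).trans (isFlat_cokernel_iff E p hEf).symm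

end Groth.Agent.FlatModel41
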