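import Groth.Agent.DerComp18.LTensor
import Groth.Agent.DCK91.KFlat
import Groth.Agent.Mod48.KFlatPull
import Groth.Agent.Mod48.TcAssoc

/-!
Flat models of derived tensor products on a ringed site.
-/

set_option autoImplicit false

universe u

open CategoryTheory CategoryTheory.Limits

attribute [local instance] HasDerivedCategory.standard

namespace Groth.Agent.FlatModel41

open Groth.Agent.Mod48

variable {C : Type u} [SmallCategory C] {J : GrothendieckTopology C} {O : Sheaf J CommRingCat.{u}}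

/-- The tensor product of flat modules is flat. -/
theorem isFlat_tens {F G : ModSite.Mod O} (hF : ModSite.IsFlat F) (hG : ModSite.IsFlat G) :
    ModSite.IsFlat (tens F G) := by
  rw [isFlat_iff_mono]
  intro A B k _
  haveI := (isFlat_iff_mono _).1 hF k
  haveI := (isFlat_iff_mono _).1 hG ((tR F).map k)
  rw [← NatIso.naturality_1 (tensAssocNat F G) k, Functor.comp_map]
  infer_instance

/-- A coproduct of flat modules indexed by a small type is flat. -/
theorem isFlat_sigma₀ {ι : Type} (X : ι → ModSite.Mod O) (h : ∀ j, ModSite.IsFlat (X j)) :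
    ModSite.IsFlat (∐ X) :=
  isFlat_of_iso (Sigma.whiskerEquiv (f := fun j : ULift.{u} ι => X j.down) (g := X) Equiv.ulift fun _ => Iso.refl _)
    (isFlat_sigma_of _ fun j => h j.down)

/-- Terms of a total tensor product of flat modules are flat. -/
theorem isFlat_tc_X {P F : CC O} (hP : ∀ i, ModSite.IsFlat (P.X i)) (hF : ∀ i, ModSite.IsFlat (F.X i)) (n : ℤ) :
    ModSite.IsFlat ((tc P F).X n) :=
  isFlat_sigma₀ _ fun i => isFlat_tens (hP i.1.1) (hF i.1.2)

theorem isZero_tc_X {P F : CC O} (n : ℤ) (h : ∀ p q, p + q = n → IsZero (P.X p) ∨ IsZero (F.X q)) :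
    IsZero ((tc P F).X n) := by
  rw [IsZero.iff_id_eq_zero]
  refine HomologicalComplex.mapBifunctor.hom_ext fun p q hpq => IsZero.eq_of_src ?_ _ _
  rcases h p q hpq with hz | hz
  · exact (tR (F.X q)).map_isZero hz
  · exact (tL (P.X p)).map_isZero hz

/-- The flat model of a derived tensor product. -/
theorem exists_flatModel {E P F : CC O} {m n m' n' : ℤ} (hP : ∀ i, ModSite.IsFlat (P.X i))
    (hPb : ∀ i, i < m ∨ n < i → IsZero (P.X i)) (eP : DerivedCategory.Q.obj P ≅ DerivedCategory.Q.obj E)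
    (hF : ∀ i, ModSite.IsFlat (F.X i)) (hFb : ∀ i, i < m' ∨ n' < i → IsZero (F.X i)) [ModSite.HasLTensorCx F] :
    ∃ G : CC O, (∀ i, ModSite.IsFlat (G.X i)) ∧ (∀ i, i < m + m' ∨ n + n' < i → IsZero (G.X i)) ∧
      Nonempty (DerivedCategory.Q.obj G ≅ (ModSite.LTensorCx F).obj (DerivedCategory.Q.obj E)) := by
  have hk : ModSite.IsKFlat P := DCK91.isKFlat_of_le P n
    ((CochainComplex.isStrictlyLE_iff P n).2 fun i hi => hPb i (Or.inr hi)) hP
  haveI := DerComp18.isIso_ltCounit F P hk
  refine ⟨tc P F, isFlat_tc_X hP hF, fun i hi => isZero_tc_X i fun p q hpq => ?_,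
    ⟨(asIso ((DerComp18.ltCounit F).app P)).symm ≪≫ (ModSite.LTensorCx F).mapIso eP⟩⟩
  by_cases hp : p < m ∨ n < p
  · exact Or.inl (hPb p hp)
  · exact Or.inr (hFb q (by omega))

end Groth.Agent.FlatModel41
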